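import Groth.Agent.Lib.GrTw11.Basic

/-!
Where the twisting sheaves are invertible.
-/

set_option autoImplicit false

open CategoryTheory CategoryTheory.Limits AlgebraicGeometry TopologicalSpace Opposite

universe u

namespace Groth.Agent.GrTw11

open _root_.GrTwist Groth.Agent.Twist

variable {A σ : Type u} [CommRing A] [SetLike σ A] [AddSubgroupClass σ A] (𝒜 : ℕ → σ) [GradedRing 𝒜]

theorem mk_mul_mk_eq_one {x : ProjectiveSpectrum 𝒜} {a b : A} (ha : a ∉ x.asHomogeneousIdeal)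
    (hb : b ∉ x.asHomogeneousIdeal) :
    Localization.mk a (⟨b, hb⟩ : x.asHomogeneousIdeal.toIdeal.primeCompl) *
      Localization.mk b (⟨a, ha⟩ : x.asHomogeneousIdeal.toIdeal.primeCompl) = 1 := by
  rw [Localization.mk_mul]
  exact (Localization.mk_eq_mk_iff.2 (Localization.r_iff_exists.2 ⟨1, by simp [mul_comm]⟩)).trans Localization.mk_one

/-- `O(nd)` is free on `D₊(ab)` when `deg a = deg b + d`. -/
theorem nonempty_iso_basicOpen_mul {d i j : ℕ} {a b : A} (ha : a ∈ 𝒜 i) (hb : b ∈ 𝒜 j) (hij : i = j + d) (n : ℤ) :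
    Nonempty ((_root_.GrTwist.twist 𝒜 (n * d)).restrict (Proj.basicOpen 𝒜 (a * b)).ι ≅
      Coh.structureModule ↑(Proj.basicOpen 𝒜 (a * b))) := by
  have hUa : Proj.basicOpen 𝒜 (a * b) ≤ Proj.basicOpen 𝒜 a := Proj.basicOpen_mono 𝒜 _ _ (dvd_mul_right a b)
  have hUb : Proj.basicOpen 𝒜 (a * b) ≤ Proj.basicOpen 𝒜 b := Proj.basicOpen_mono 𝒜 _ _ (dvd_mul_left b a)
  have hUa' : ∀ k : ℕ, Proj.basicOpen 𝒜 (a * b) ≤ Proj.basicOpen 𝒜 (a ^ k) := fun k x hx h =>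
    hUa hx (x.isPrime.mem_of_pow_mem k h)
  have hUb' : ∀ k : ℕ, Proj.basicOpen 𝒜 (a * b) ≤ Proj.basicOpen 𝒜 (b ^ k) := fun k x hx h =>
    hUb hx (x.isPrime.mem_of_pow_mem k h)
  rcases Int.eq_nat_or_neg n with ⟨k, rfl | rfl⟩
  · refine nonempty_iso_of_inverse
      (frac 𝒜 _ (SetLike.pow_mem_graded k ha) (SetLike.pow_mem_graded k hb)
        (by subst hij; simp only [smul_eq_mul]; push_cast; ring) (hUb' k))
      (frac 𝒜 _ (SetLike.pow_mem_graded k hb) (SetLike.pow_mem_graded k ha)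
        (by subst hij; simp only [smul_eq_mul]; push_cast; ring) (hUa' k)) fun x hx => ?_
    exact mk_mul_mk_eq_one 𝒜 (hUa' k hx) (hUb' k hx)
  · refine nonempty_iso_of_inverse
      (frac 𝒜 _ (SetLike.pow_mem_graded k hb) (SetLike.pow_mem_graded k ha)
        (by subst hij; simp only [smul_eq_mul]; push_cast; ring) (hUa' k))
      (frac 𝒜 _ (SetLike.pow_mem_graded k ha) (SetLike.pow_mem_graded k hb)
        (by subst hij; simp only [smul_eq_mul]; push_cast; ring) (hUb' k)) fun x hx => ?_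
    exact mk_mul_mk_eq_one 𝒜 (hUb' k hx) (hUa' k hx)

/-- `O(n)` is free on `D₊(f)`, `f` of degree one. -/
theorem nonempty_iso_basicOpen {f : A} (hf : f ∈ 𝒜 1) (n : ℤ) :
    Nonempty ((_root_.GrTwist.twist 𝒜 n).restrict (Proj.basicOpen 𝒜 f).ι ≅
      Coh.structureModule ↑(Proj.basicOpen 𝒜 f)) := by
  have h := nonempty_iso_basicOpen_mul 𝒜 (d := 1) (i := 1) (j := 0) hf (SetLike.one_mem_graded 𝒜) rfl n
  rwa [mul_one, Nat.cast_one, mul_one] at h

theorem exists_deg_one_nhd (hcov : (⨆ f : 𝒜 1, Proj.basicOpen 𝒜 (f : A)) = ⊤) (n : ℤ) (x : Proj 𝒜) :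
    ∃ D : (Proj 𝒜).Opens, x ∈ D ∧
      Nonempty ((_root_.GrTwist.twist 𝒜 n).restrict D.ι ≅ Coh.structureModule (D : Scheme.{u})) := by
  have hx : x ∈ (⨆ f : 𝒜 1, Proj.basicOpen 𝒜 (f : A)) := by rw [hcov]; trivial
  obtain ⟨f, hf⟩ := Opens.mem_iSup.1 hx
  exact ⟨_, hf, nonempty_iso_basicOpen 𝒜 f.2 n⟩

theorem isInvertible_twist (hcov : (⨆ f : 𝒜 1, Proj.basicOpen 𝒜 (f : A)) = ⊤) (n : ℤ) :
    PicF.IsInvertible (_root_.GrTwist.twist 𝒜 n) :=
  exists_deg_one_nhd 𝒜 hcov n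

theorem isQCoh_twist (hcov : (⨆ f : 𝒜 1, Proj.basicOpen 𝒜 (f : A)) = ⊤) (n : ℤ) :
    Coh.IsQCoh (_root_.GrTwist.twist 𝒜 n) :=
  isQCoh_of_local _ (exists_deg_one_nhd 𝒜 hcov n)

/-- The non-vanishing locus of the section `f/1` of `O(m)`. -/
theorem mem_basicOpen_iff_span {m : ℕ} (f : 𝒜 m) (p : ProjectiveSpectrum 𝒜)
    {i j : ℕ} {u v : A} (hu : u ∈ 𝒜 i) (hv : v ∈ 𝒜 j) (hij : i = j + m)
    (hup : u ∉ p.asHomogeneousIdeal) (hvp : v ∉ p.asHomogeneousIdeal) :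
    p ∈ ProjectiveSpectrum.basicOpen 𝒜 (f : A) ↔
      Submodule.span (A0 𝒜 p) {(globalOf 𝒜 f).1 ⟨p, trivial⟩} = ⊤ := by
  have h1 : (1 : A) ∉ p.asHomogeneousIdeal := fun h => p.isPrime.ne_top ((Ideal.eq_top_iff_one _).mpr h)
  constructor
  · intro hf
    refine eq_top_iff.2 fun q _ => ?_
    have hmem : (q : Loc 𝒜 p) * Localization.mk 1 (⟨f.1, hf⟩ : p.asHomogeneousIdeal.toIdeal.primeCompl) ∈
        twistAt 𝒜 0 p := by
      have h := mul_mem_twistAt 𝒜 q.2 (mk_mem 𝒜 (n := -(m : ℤ)) p (SetLike.one_mem_graded 𝒜) f.2 hf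
        (Or.inl (by simp)))
      rwa [add_neg_cancel] at h
    obtain ⟨c, hc⟩ := exists_val_eq 𝒜 hmem
    refine Submodule.mem_span_singleton.2 ⟨c, Subtype.ext ?_⟩
    rw [coe_smul_A0, hc]
    show (q : Loc 𝒜 p) * _ * Localization.mk f.1 (⟨1, h1⟩ : p.asHomogeneousIdeal.toIdeal.primeCompl) = q
    rw [mul_assoc, mul_comm (Localization.mk 1 _), mk_mul_mk_eq_one 𝒜 hf h1, mul_one]
  · intro h hf
    have hq : (⟨Localization.mk u ⟨v, hvp⟩, mk_mem 𝒜 p hu hv hvp (Or.inl (by rw [hij]; push_cast; ring))⟩ :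
        twistAt 𝒜 (m : ℤ) p) ∈ Submodule.span (A0 𝒜 p) {(globalOf 𝒜 f).1 ⟨p, trivial⟩} := h ▸ trivial
    obtain ⟨c, hc⟩ := Submodule.mem_span_singleton.1 hq
    obtain ⟨c, rfl⟩ := HomogeneousLocalization.mk_surjective c
    have hc' := congrArg (Subtype.val) hc
    rw [coe_smul_A0, HomogeneousLocalization.val_mk] at hc'
    replace hc' : Localization.mk c.num.1 (⟨c.den.1, c.den_mem⟩ : p.asHomogeneousIdeal.toIdeal.primeCompl) *
        Localization.mk f.1 ⟨1, h1⟩ = Localization.mk u ⟨v, hvp⟩ := hc'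
    rw [Localization.mk_mul, Localization.mk_eq_mk_iff, Localization.r_iff_exists] at hc'
    obtain ⟨⟨w, hw⟩, hc'⟩ := hc'
    replace hc' : w * (v * (c.num.1 * f.1)) = w * (c.den.1 * 1 * u) := hc'
    rw [mul_one] at hc'
    have hmem : w * (c.den.1 * u) ∈ p.asHomogeneousIdeal.toIdeal := by
      rw [← hc']
      exact Ideal.mul_mem_left _ _ (Ideal.mul_mem_left _ _ (Ideal.mul_mem_left _ _ hf))
    exact ((p.isPrime.mem_or_mem hmem).elim hw fun h' => (p.isPrime.mem_or_mem h').elim c.den_mem hup)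

end Groth.Agent.GrTw11
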