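import Groth.Agent.Lib.GrTw11.Basic
import Groth.Agent.Lib.RelProj11.Res

/-!
The twisting sheaves of a localization at an element of degree zero.
-/

universe u

open CategoryTheory CategoryTheory.Limits AlgebraicGeometry TopologicalSpace Opposite
open scoped HomogeneousIdeal

namespace Groth.Agent.GrTw11

open _root_.GrTwist Groth.Agent.RelProj11

variable {A B C σ τ υ : Type u} [CommRing A] [SetLike σ A] [AddSubgroupClass σ A]
  [CommRing B] [SetLike τ B] [AddSubgroupClass τ B] [CommRing C] [SetLike υ C] [AddSubgroupClass υ C]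
  {𝒜 : ℕ → σ} {ℬ : ℕ → τ} {𝒞 : ℕ → υ} [GradedRing 𝒜] [GradedRing ℬ] [GradedRing 𝒞]
  (ψ : 𝒜 →+*ᵍ ℬ) (hψ : ℬ₊ ≤ (𝒜₊).map ψ)

theorem locMap_frac (y : ProjectiveSpectrum ℬ) (a s : A)
    (hs : s ∉ (ProjectiveSpectrum.comap ψ hψ y).asHomogeneousIdeal) :
    locMap ψ hψ y (Localization.mk a ⟨s, hs⟩) = Localization.mk (ψ a) ⟨ψ s, hs⟩ :=
  locMap_mk ψ hψ y a ⟨s, hs⟩

theorem locMap_comp (f : 𝒜 →+*ᵍ ℬ) (hf : ℬ₊ ≤ (𝒜₊).map f) (g : ℬ →+*ᵍ 𝒞) (hg : 𝒞₊ ≤ (ℬ₊).map g)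
    (hgf : 𝒞₊ ≤ (𝒜₊).map (g.comp f)) (y : ProjectiveSpectrum 𝒞)
    (q : Loc 𝒜 (ProjectiveSpectrum.comap f hf (ProjectiveSpectrum.comap g hg y))) :
    locMap g hg y (locMap f hf _ q) = locMap (g.comp f) hgf y q := by
  induction q using Localization.induction_on with | _ p => ?_
  obtain ⟨a, s, hs⟩ := p
  rw [locMap_frac]
  exact (locMap_frac g hg y (f a) (f s) hs).trans (locMap_frac (g.comp f) hgf y a s hs).symm

theorem loc_mk_eq_iff {x : ProjectiveSpectrum 𝒜} {a b s t : A} (hs : s ∉ x.asHomogeneousIdeal)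
    (ht : t ∉ x.asHomogeneousIdeal) :
    Localization.mk a (⟨s, hs⟩ : x.asHomogeneousIdeal.toIdeal.primeCompl) = Localization.mk b ⟨t, ht⟩ ↔
      ∃ w : A, w ∉ x.asHomogeneousIdeal ∧ w * (t * a) = w * (s * b) := by
  rw [Localization.mk_eq_mk_iff, Localization.r_iff_exists]
  exact ⟨fun ⟨⟨w, hw⟩, h⟩ => ⟨w, hw, h⟩, fun ⟨w, hw, h⟩ => ⟨⟨w, hw⟩, h⟩⟩

variable {ψ} {c : 𝒜 0} (h : IsResLoc ψ c)

include h in
theorem psi_notMem (y : ProjectiveSpectrum ℬ) (k : ℕ) : ψ (c : A) ^ k ∉ y.asHomogeneousIdeal := fun hm => by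
  obtain ⟨v, hv⟩ := exists_inv h
  have h1 : ψ (c : A) * (v : B) = 1 := congrArg Subtype.val hv
  exact y.isPrime.ne_top ((Ideal.eq_top_iff_one _).2 (h1 ▸ Ideal.mul_mem_right _ _ (y.isPrime.mem_of_pow_mem k hm)))

include h in
theorem exists_lift' (b : B) : ∃ (k : ℕ) (a : A), b * ψ (c : A) ^ k = ψ a := by
  letI := (ψ : A →+* B).toAlgebra
  haveI : IsLocalization.Away (c : A) B := h
  obtain ⟨k, a, ha⟩ := IsLocalization.Away.surj (c : A) b
  exact ⟨k, a, ha⟩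

include h in
theorem locMap_injective (y : ProjectiveSpectrum ℬ) : Function.Injective (locMap ψ hψ y) := by
  rw [injective_iff_map_eq_zero]
  intro q hq
  induction q using Localization.induction_on with | _ p => ?_
  obtain ⟨a, s, hs⟩ := p
  have hq' : Localization.mk (ψ a) (⟨ψ s, hs⟩ : y.asHomogeneousIdeal.toIdeal.primeCompl) = 0 :=
    (locMap_frac ψ hψ y a s hs).symm.trans hq
  have h1 : (1 : B) ∉ y.asHomogeneousIdeal := fun hm => y.isPrime.ne_top ((Ideal.eq_top_iff_one _).2 hm)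
  rw [← Localization.mk_zero (⟨1, h1⟩ : y.asHomogeneousIdeal.toIdeal.primeCompl), loc_mk_eq_iff] at hq'
  obtain ⟨w, hw, hw'⟩ := hq'
  rw [one_mul, mul_zero, mul_zero] at hw'
  obtain ⟨k, w', hk⟩ := exists_lift' h w
  obtain ⟨j, hj⟩ := exists_pow_mul_eq_zero h (a := w' * a)
    (by rw [map_mul, ← hk, mul_right_comm, hw', zero_mul])
  have hnot : (c : A) ^ j * w' ∉ (ProjectiveSpectrum.comap ψ hψ y).asHomogeneousIdeal := by
    intro hm
    have hm' : ψ ((c : A) ^ j * w') ∈ y.asHomogeneousIdeal := hm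
    rw [map_mul, map_pow, ← hk] at hm'
    rcases y.isPrime.mem_or_mem hm' with h' | h'
    · exact psi_notMem h y j h'
    · rcases y.isPrime.mem_or_mem h' with h'' | h''
      · exact hw h''
      · exact psi_notMem h y k h''
  have h0 : (1 : A) ∉ (ProjectiveSpectrum.comap ψ hψ y).asHomogeneousIdeal := fun hm =>
    (ProjectiveSpectrum.comap ψ hψ y).isPrime.ne_top ((Ideal.eq_top_iff_one _).2 hm)
  rw [← Localization.mk_zero (⟨1, h0⟩ : (ProjectiveSpectrum.comap ψ hψ y).asHomogeneousIdeal.toIdeal.primeCompl)]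
  exact (loc_mk_eq_iff _ _).2 ⟨_, hnot, by rw [one_mul, mul_zero, mul_zero, mul_assoc, hj]⟩

include h in
/-- A homogeneous fraction lifts to one of the same degrees. -/
theorem exists_lift_frac {y : ProjectiveSpectrum ℬ} {i j : ℕ} {b t : B} (hb : b ∈ ℬ i) (ht : t ∈ ℬ j)
    (hty : t ∉ y.asHomogeneousIdeal) :
    ∃ (a s : A) (e : B), a ∈ 𝒜 i ∧ s ∈ 𝒜 j ∧ ψ a = b * e ∧ ψ s = t * e ∧
      s ∉ (ProjectiveSpectrum.comap ψ hψ y).asHomogeneousIdeal ∧ (b = 0 → a = 0) := by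
  classical
  obtain ⟨k, a, ha, hka⟩ := exists_lift h hb
  obtain ⟨l, s, hs, hls⟩ := exists_lift h ht
  refine ⟨if b = 0 then 0 else a * (c : A) ^ l, s * (c : A) ^ k, ψ (c : A) ^ (k + l), ?_, ?_, ?_, ?_, ?_, fun h0 => by simp [h0]⟩
  · split_ifs
    · exact zero_mem _
    · simpa using SetLike.mul_mem_graded ha (SetLike.pow_mem_graded l c.2)
  · simpa using SetLike.mul_mem_graded hs (SetLike.pow_mem_graded k c.2)
  · split_ifs with h0
    · simp [h0]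
    · rw [map_mul, map_pow, ← hka]; ring
  · rw [map_mul, map_pow, ← hls]; ring
  · intro hm
    have hm' : ψ (s * (c : A) ^ k) ∈ y.asHomogeneousIdeal := hm
    rw [map_mul, map_pow, ← hls] at hm'
    rcases y.isPrime.mem_or_mem hm' with h' | h'
    · rcases y.isPrime.mem_or_mem h' with h'' | h''
      · exact hty h''
      · exact psi_notMem h y l h''
    · exact psi_notMem h y k h'

include h in
theorem exists_locMap_eq (n : ℤ) (y : ProjectiveSpectrum ℬ) {q : Loc ℬ y} (hq : q ∈ twistAt ℬ n y) :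
    ∃ q' ∈ twistAt 𝒜 n (ProjectiveSpectrum.comap ψ hψ y), locMap ψ hψ y q' = q := by
  induction hq using Submodule.span_induction with
  | mem q hq =>
    obtain ⟨i, j, ⟨b, hb⟩, ⟨t, ht⟩, hty, hij, rfl⟩ := hq
    obtain ⟨a, s, e, ha, hs, hae, hse, hsy, -⟩ := exists_lift_frac hψ h hb ht hty
    refine ⟨Localization.mk a ⟨s, hsy⟩, mk_mem 𝒜 _ ha hs hsy (Or.inl hij), ?_⟩
    rw [locMap_frac]
    exact (loc_mk_eq_iff _ _).2 ⟨1, fun hm => y.isPrime.ne_top ((Ideal.eq_top_iff_one _).2 hm),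
      by simp only [hae, hse]; ring⟩
  | zero => exact ⟨0, zero_mem _, map_zero _⟩
  | add u v _ _ hu hv =>
    obtain ⟨u', hu', rfl⟩ := hu
    obtain ⟨v', hv', rfl⟩ := hv
    exact ⟨u' + v', add_mem hu' hv', map_add _ _ _⟩
  | smul d u _ hu =>
    obtain ⟨u', hu', rfl⟩ := hu
    obtain ⟨d, rfl⟩ := HomogeneousLocalization.mk_surjective d
    obtain ⟨a, s, e, ha, hs, hae, hse, hsy, -⟩ := exists_lift_frac hψ h d.num.2 d.den.2 d.den_mem
    have hc : Localization.mk a (⟨s, hsy⟩ : (ProjectiveSpectrum.comap ψ hψ y).asHomogeneousIdeal.toIdeal.primeCompl) * u' ∈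
        twistAt 𝒜 n (ProjectiveSpectrum.comap ψ hψ y) := by
      have := mul_mem_twistAt 𝒜 (mk_mem 𝒜 (n := 0) _ ha hs hsy (Or.inl (by simp))) hu'
      rwa [zero_add] at this
    refine ⟨_, hc, ?_⟩
    rw [map_mul, locMap_frac, Algebra.smul_def, HomogeneousLocalization.algebraMap_apply, HomogeneousLocalization.val_mk]
    refine congrArg (· * _) ?_
    exact (loc_mk_eq_iff _ _).2 ⟨1, fun hm => y.isPrime.ne_top ((Ideal.eq_top_iff_one _).2 hm),
      by simp only [hae, hse]; ring⟩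

include h in
theorem comapApp_bijective (n : ℤ) (U : (Proj 𝒜).Opens) (V : (Proj ℬ).Opens) (hV : V = Proj.map ψ hψ ⁻¹ᵁ U)
    (hU : (U : Set (Proj 𝒜)) ⊆ Set.range (Proj.map ψ hψ)) :
    Function.Bijective (comapApp ψ hψ n U V (hV ▸ Set.Subset.rfl)) := by
  subst hV
  constructor
  · intro s s' e
    refine sec_ext fun x hx => ?_
    obtain ⟨y, rfl⟩ := hU hx
    exact locMap_injective hψ h y
      (congrArg (fun t : sectN (𝒜 := ℬ) n _ => ((t.1 ⟨y, hx⟩ : twistAt ℬ n y) : Loc ℬ y)) e)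
  · intro t
    have hex : ∀ x : U, ∃ q : twistAt 𝒜 n x.1, ∀ (y : ProjectiveSpectrum ℬ) (he : ProjectiveSpectrum.comap ψ hψ y = x.1)
        (hy : y ∈ Proj.map ψ hψ ⁻¹ᵁ U),
        locMap ψ hψ y (he ▸ (q : Loc 𝒜 x.1)) = ((t.1 ⟨y, hy⟩ : twistAt ℬ n y) : Loc ℬ y) := by
      rintro ⟨x, hx⟩
      obtain ⟨y₀, rfl⟩ := hU hx
      obtain ⟨q', hq', e⟩ := exists_locMap_eq hψ h n y₀ (t.1 ⟨y₀, hx⟩).2
      refine ⟨⟨q', hq'⟩, fun y he hy => ?_⟩
      haveI := isOpenImmersion_map hψ h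
      obtain rfl : y = y₀ := (Proj.map ψ hψ).isOpenEmbedding.injective he
      exact e
    choose q hq using hex
    haveI := isOpenImmersion_map hψ h
    refine ⟨⟨q, fun x => ?_⟩, sec_ext fun y hy => hq ⟨ProjectiveSpectrum.comap ψ hψ y, hy⟩ y rfl hy⟩
    obtain ⟨x, hx⟩ := x
    obtain ⟨y₀, rfl⟩ := hU hx
    rcases t.2 ⟨y₀, hx⟩ with ⟨V, hm, iV, i, j, ⟨b, hb⟩, ⟨d, hd⟩, nin, cond, w⟩
    obtain ⟨a, s, e, ha, hs, hae, hse, hsy, ha0⟩ := exists_lift_frac hψ h hb hd (nin ⟨y₀, hm⟩)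
    refine ⟨(Proj.map ψ hψ ''ᵁ V) ⊓ U ⊓ Proj.basicOpen 𝒜 s, ⟨⟨⟨y₀, hm, rfl⟩, hx⟩, hsy⟩,
      homOfLE (inf_le_left.trans inf_le_right), i, j, ⟨a, ha⟩, ⟨s, hs⟩, fun z => z.2.2, ?_, ?_⟩
    · exact cond.imp id ha0
    · rintro ⟨z, ⟨⟨y, hyV, rfl⟩, hyU⟩, hys⟩
      have hys' : s ∉ (ProjectiveSpectrum.comap ψ hψ y).asHomogeneousIdeal := hys
      refine locMap_injective hψ h y ?_
      refine (hq ⟨ProjectiveSpectrum.comap ψ hψ y, hyU⟩ y rfl hyU).trans ?_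
      refine (w ⟨y, hyV⟩).trans ?_
      refine Eq.trans ?_ (locMap_frac ψ hψ y a s hys').symm
      exact (loc_mk_eq_iff _ _).2 ⟨1, fun hm => y.isPrime.ne_top ((Ideal.eq_top_iff_one _).2 hm),
        by simp only [hae, hse]; ring⟩

end Groth.Agent.GrTw11
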