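import Groth.Prelude.Def_GrTwist
import Groth.Agent.Lib.Twist.Triv

/-!
Sections of Serre's twisting sheaves: fractions, multiplication, degree zero, trivialisations.
-/

set_option autoImplicit false

open CategoryTheory CategoryTheory.Limits AlgebraicGeometry TopologicalSpace Opposite

universe u

namespace Groth.Agent.GrTw11

open _root_.GrTwist Groth.Agent.Twist

variable {A σ : Type u} [CommRing A] [SetLike σ A] [AddSubgroupClass σ A] (𝒜 : ℕ → σ) [GradedRing 𝒜]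

/-- A fraction of degree `n` lies in `twistAt n`. -/
theorem mk_mem {n : ℤ} (x : ProjectiveSpectrum 𝒜) {i j : ℕ} {a s : A} (ha : a ∈ 𝒜 i) (hs : s ∈ 𝒜 j)
    (hsx : s ∉ x.asHomogeneousIdeal) (hd : (i : ℤ) = j + n ∨ a = 0) :
    Localization.mk a (⟨s, hsx⟩ : x.asHomogeneousIdeal.toIdeal.primeCompl) ∈ twistAt 𝒜 n x := by
  rcases hd with hd | hd
  · exact Submodule.subset_span ⟨i, j, ⟨a, ha⟩, ⟨s, hs⟩, hsx, hd, rfl⟩
  · subst hd
    rw [Localization.mk_zero]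
    exact zero_mem _

theorem coe_smul_A0 {n : ℤ} {x : ProjectiveSpectrum 𝒜} (c : A0 𝒜 x) (q : twistAt 𝒜 n x) :
    ((c • q : twistAt 𝒜 n x) : Loc 𝒜 x) = c.val * (q : Loc 𝒜 x) := coe_smul_val n x c q

theorem mul_mem_twistAt {m n : ℤ} {x : ProjectiveSpectrum 𝒜} {p q : Loc 𝒜 x}
    (hp : p ∈ twistAt 𝒜 m x) (hq : q ∈ twistAt 𝒜 n x) : p * q ∈ twistAt 𝒜 (m + n) x := by
  refine Submodule.span_induction (p := fun p _ => p * q ∈ twistAt 𝒜 (m + n) x) ?_ ?_ ?_ ?_ hp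
  · rintro _ ⟨i, j, a, s, hs, hij, rfl⟩
    refine Submodule.span_induction (p := fun q _ => _ * q ∈ twistAt 𝒜 (m + n) x) ?_ ?_ ?_ ?_ hq
    · rintro _ ⟨k, l, b, t, ht, hkl, rfl⟩
      rw [Localization.mk_mul]
      exact mk_mem 𝒜 x (SetLike.mul_mem_graded a.2 b.2) (SetLike.mul_mem_graded s.2 t.2)
        (fun h => (x.isPrime.mem_or_mem h).elim hs ht) (Or.inl (by push_cast; omega))
    · simp
    · intro u v _ _ hu hv; rw [mul_add]; exact add_mem hu hv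
    · intro c u _ hu; rw [mul_smul_comm]; exact Submodule.smul_mem _ c hu
  · simp
  · intro u v _ _ hu hv; rw [add_mul]; exact add_mem hu hv
  · intro c u _ hu; rw [smul_mul_assoc]; exact Submodule.smul_mem _ c hu

theorem exists_val_eq {x : ProjectiveSpectrum 𝒜} {q : Loc 𝒜 x} (hq : q ∈ twistAt 𝒜 0 x) :
    ∃ c : A0 𝒜 x, c.val = q := by
  refine Submodule.span_induction (p := fun q _ => ∃ c : A0 𝒜 x, c.val = q) ?_ ?_ ?_ ?_ hq
  · rintro _ ⟨i, j, a, s, hs, hij, rfl⟩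
    have : i = j := by omega
    subst this
    exact ⟨HomogeneousLocalization.mk ⟨i, a, s, hs⟩, HomogeneousLocalization.val_mk _⟩
  · exact ⟨0, HomogeneousLocalization.val_zero⟩
  · rintro u v _ _ ⟨c, rfl⟩ ⟨d, rfl⟩; exact ⟨c + d, HomogeneousLocalization.val_add c d⟩
  · rintro c u _ ⟨d, rfl⟩
    refine ⟨c * d, ?_⟩
    rw [HomogeneousLocalization.val_mul, Algebra.smul_def, HomogeneousLocalization.algebraMap_apply]

variable {𝒜}

/-- Sections of `O(n)` over `U`. -/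
abbrev Sec (n : ℤ) (U : (Proj 𝒜).Opens) : Type u := ↥(sectN (𝒜 := 𝒜) n (op U))

/-- The value of a section at a point. -/
def val {n : ℤ} {U : (Proj 𝒜).Opens} (f : Sec (𝒜 := 𝒜) n U) (x : ProjectiveSpectrum 𝒜) (hx : x ∈ U) :
    Loc 𝒜 x := (f.1 ⟨x, hx⟩ : Loc 𝒜 x)

@[ext]
theorem sec_ext {n : ℤ} {U : (Proj 𝒜).Opens} {f g : Sec (𝒜 := 𝒜) n U}
    (h : ∀ x hx, val f x hx = val g x hx) : f = g :=
  Subtype.ext (funext fun x => Subtype.ext (h x.1 x.2))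

theorem val_mem {n : ℤ} {U : (Proj 𝒜).Opens} (f : Sec (𝒜 := 𝒜) n U) (x : ProjectiveSpectrum 𝒜) (hx : x ∈ U) :
    val f x hx ∈ twistAt 𝒜 n x := (f.1 ⟨x, hx⟩).2

variable (𝒜) in
/-- The section `a / s`. -/
noncomputable def frac {n : ℤ} (U : (Proj 𝒜).Opens) {i j : ℕ} {a s : A} (ha : a ∈ 𝒜 i) (hs : s ∈ 𝒜 j)
    (hd : (i : ℤ) = j + n) (hU : U ≤ Proj.basicOpen 𝒜 s) : Sec (𝒜 := 𝒜) n U :=
  ⟨fun x => ⟨Localization.mk a ⟨s, hU x.2⟩, mk_mem 𝒜 x.1 ha hs _ (Or.inl hd)⟩,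
    fun x => ⟨U, x.2, 𝟙 _, i, j, ⟨a, ha⟩, ⟨s, hs⟩, fun y => hU y.2, Or.inl hd, fun _ => rfl⟩⟩

theorem val_frac {n : ℤ} {U : (Proj 𝒜).Opens} {i j : ℕ} {a s : A} {ha : a ∈ 𝒜 i} {hs : s ∈ 𝒜 j}
    {hd : (i : ℤ) = j + n} {hU : U ≤ Proj.basicOpen 𝒜 s} (x : ProjectiveSpectrum 𝒜) (hx : x ∈ U) :
    val (frac 𝒜 U ha hs hd hU) x hx = Localization.mk a ⟨s, hU hx⟩ := rfl

/-- The product of sections. -/
noncomputable def mulSec {m n : ℤ} {U : (Proj 𝒜).Opens} (f : Sec (𝒜 := 𝒜) m U) (g : Sec (𝒜 := 𝒜) n U) :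
    Sec (𝒜 := 𝒜) (m + n) U :=
  ⟨fun x => ⟨(f.1 x : Loc 𝒜 x.1) * (g.1 x : Loc 𝒜 x.1), mul_mem_twistAt 𝒜 (f.1 x).2 (g.1 x).2⟩, by
    intro x
    rcases f.2 x with ⟨Va, ma, ia, i, j, ⟨a, a_mem⟩, ⟨s, s_mem⟩, nina, ca, wa⟩
    rcases g.2 x with ⟨Vb, mb, ib, k, l, ⟨b, b_mem⟩, ⟨t, t_mem⟩, ninb, cb, wb⟩
    replace ca : (i : ℤ) = j + m ∨ a = 0 := ca
    replace cb : (k : ℤ) = l + n ∨ b = 0 := cb
    refine ⟨Va ⊓ Vb, ⟨ma, mb⟩, Opens.infLELeft _ _ ≫ ia, i + k, j + l,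
      ⟨a * b, SetLike.mul_mem_graded a_mem b_mem⟩, ⟨s * t, SetLike.mul_mem_graded s_mem t_mem⟩,
      fun y h => (y.1.isPrime.mem_or_mem h).elim (nina ⟨y.1, y.2.1⟩) (ninb ⟨y.1, y.2.2⟩), ?_, fun y => ?_⟩
    · rcases ca with ha | ha
      · rcases cb with hb | hb
        · exact Or.inl (by push_cast; omega)
        · exact Or.inr (by show a * b = 0; rw [hb, mul_zero])
      · exact Or.inr (by show a * b = 0; rw [ha, zero_mul])
    · have e1 := wa ⟨y.1, y.2.1⟩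
      have e2 := wb ⟨y.1, y.2.2⟩
      dsimp only at e1 e2 ⊢
      erw [e1, e2]
      exact Localization.mk_mul _ _ _ _⟩

@[simp] theorem val_mulSec {m n : ℤ} {U : (Proj 𝒜).Opens} (f : Sec (𝒜 := 𝒜) m U) (g : Sec (𝒜 := 𝒜) n U)
    (x : ProjectiveSpectrum 𝒜) (hx : x ∈ U) : val (mulSec f g) x hx = val f x hx * val g x hx := rfl

/-- Change of degree along an equality. -/
def castSec {m n : ℤ} {U : (Proj 𝒜).Opens} (h : m = n) (f : Sec (𝒜 := 𝒜) m U) : Sec (𝒜 := 𝒜) n U := h ▸ f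

@[simp] theorem val_castSec {m n : ℤ} {U : (Proj 𝒜).Opens} (h : m = n) (f : Sec (𝒜 := 𝒜) m U)
    (x : ProjectiveSpectrum 𝒜) (hx : x ∈ U) : val (castSec h f) x hx = val f x hx := by subst h; rfl

/-- The value of a function at a point. -/
noncomputable def valO {U : (Proj 𝒜).Opens} (r : Γ(Proj 𝒜, U)) (x : ProjectiveSpectrum 𝒜) (hx : x ∈ U) :
    Loc 𝒜 x := (r.1 ⟨x, hx⟩).val

theorem sectionO_ext {U : (Proj 𝒜).Opens} {r r' : Γ(Proj 𝒜, U)} (h : ∀ x hx, valO r x hx = valO r' x hx) :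
    r = r' :=
  Subtype.ext (funext fun x => HomogeneousLocalization.val_injective _ (h x.1 x.2))

/-- A section of `O(0)` is a function. -/
theorem exists_valO_eq {U : (Proj 𝒜).Opens} (f : Sec (𝒜 := 𝒜) 0 U) :
    ∃ r : Γ(Proj 𝒜, U), ∀ x hx, valO r x hx = val f x hx := by
  choose c hc using fun x : U => exists_val_eq 𝒜 (f.1 x).2
  refine ⟨⟨c, fun x => ?_⟩, fun x hx => hc ⟨x, hx⟩⟩
  rcases f.2 x with ⟨V, m, i, di, dj, ⟨a, a_mem⟩, ⟨s, s_mem⟩, nin, cond, w⟩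
  replace cond : (di : ℤ) = dj + 0 ∨ a = 0 := cond
  have a_mem' : a ∈ 𝒜 dj := by
    rcases cond with h | h
    · have : di = dj := by omega
      exact this ▸ a_mem
    · exact h ▸ zero_mem _
  refine ⟨V, m, i, dj, ⟨a, a_mem'⟩, ⟨s, s_mem⟩, nin, fun y => HomogeneousLocalization.val_injective _ ?_⟩
  show (c (i y)).val = _
  erw [hc (i y), w y, HomogeneousLocalization.val_mk]

/-- The global module. -/
theorem val_smul {n : ℤ} {U : (Proj 𝒜).Opens} (r : Γ(Proj 𝒜, U)) (f : Γ(_root_.GrTwist.twist 𝒜 n, U))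
    (x : ProjectiveSpectrum 𝒜) (hx : x ∈ U) :
    val (r • f : Γ(_root_.GrTwist.twist 𝒜 n, U)) x hx = valO r x hx * val (n := n) f x hx := by
  show ((r.1 ⟨x, hx⟩ • (f : Sec (𝒜 := 𝒜) n U).1 ⟨x, hx⟩ : twistAt 𝒜 n x) : Loc 𝒜 x) = _
  rw [coe_smul_A0]
  rfl

theorem val_mres {n : ℤ} {U V : (Proj 𝒜).Opens} (h : V ≤ U) (f : Γ(_root_.GrTwist.twist 𝒜 n, U))
    (x : ProjectiveSpectrum 𝒜) (hx : x ∈ V) :
    val (n := n) (Groth.Agent.M1.mres (_root_.GrTwist.twist 𝒜 n) h f) x hx = val (n := n) f x (h hx) := rfl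

/-- Mutually inverse sections of degrees `n`, `-n` generate. -/
theorem bijective_smul_of_inverse {n : ℤ} {U : (Proj 𝒜).Opens} (e : Sec (𝒜 := 𝒜) n U)
    (e' : Sec (𝒜 := 𝒜) (-n) U) (h : ∀ x hx, val e x hx * val e' x hx = 1) (V : (Proj 𝒜).Opens) (hV : V ≤ U) :
    Function.Bijective fun r : Γ(Proj 𝒜, V) =>
      r • Groth.Agent.M1.mres (_root_.GrTwist.twist 𝒜 n) hV (e : Γ(_root_.GrTwist.twist 𝒜 n, U)) := by
  constructor
  · intro r r' hr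
    refine sectionO_ext fun x hx => ?_
    have := congrArg (fun f => val (n := n) f x hx) hr
    simp only [val_smul] at this
    have h2 : valO r x hx * val e x (hV hx) * val e' x (hV hx) = valO r' x hx * val e x (hV hx) * val e' x (hV hx) :=
      congrArg (· * val e' x (hV hx)) this
    simpa only [mul_assoc, h x (hV hx), mul_one] using h2
  · intro f
    obtain ⟨r, hr⟩ := exists_valO_eq (castSec (add_neg_cancel n)
      (mulSec (f : Sec (𝒜 := 𝒜) n V) (resN (-n) (homOfLE hV).op e')))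
    refine ⟨r, sec_ext fun x hx => ?_⟩
    rw [val_smul, hr, val_castSec]
    show val (n := n) f x hx * val e' x (hV hx) * val e x (hV hx) = _
    rw [mul_assoc, mul_comm (val e' x (hV hx)), h, mul_one]

/-- Mutually inverse sections trivialise `O(n)`. -/
theorem nonempty_iso_of_inverse {n : ℤ} {U : (Proj 𝒜).Opens} (e : Sec (𝒜 := 𝒜) n U)
    (e' : Sec (𝒜 := 𝒜) (-n) U) (h : ∀ x hx, val e x hx * val e' x hx = 1) :
    Nonempty ((_root_.GrTwist.twist 𝒜 n).restrict U.ι ≅ Coh.structureModule ↑U) :=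
  nonempty_restrict_iso _ U e (bijective_smul_of_inverse e e' h)

end Groth.Agent.GrTw11
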